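import Mathlib.CategoryTheory.Limits.Shapes.Pullback.HasPullback
import Mathlib.CategoryTheory.Limits.Shapes.Equalizers
import Mathlib.CategoryTheory.Limits.Shapes.BinaryProducts
import Mathlib.CategoryTheory.IsConnected
import Mathlib.CategoryTheory.FinCategory.Basic
import Mathlib.Data.Fintype.Sigma

/-!
# Finite limits built one object and one arrow at a time

`Rep M T E` : the functor of families indexed by the objects in `T`, compatible with the arrows in
`E`, is representable.
-/

namespace Groth.Agent.CatLimFin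

open CategoryTheory CategoryTheory.Limits

universe v u

variable {J : Type} [SmallCategory J] {C : Type u} [Category.{v} C] (M : J ⥤ C)

/-- A family on `T` compatible with the arrows in `E`. -/
def Compat (T : Finset J) (E : Finset (Σ x y : J, x ⟶ y)) {W : C}
    (f : ∀ j ∈ T, W ⟶ M.obj j) : Prop :=
  ∀ a ∈ E, ∀ (hx : a.1 ∈ T) (hy : a.2.1 ∈ T), f a.1 hx ≫ M.map a.2.2 = f a.2.1 hy

/-- Representability of the families on `T` compatible with `E`. -/
def Rep (T : Finset J) (E : Finset (Σ x y : J, x ⟶ y)) : Prop :=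
  ∃ (P : C) (π : ∀ j ∈ T, P ⟶ M.obj j), Compat M T E π ∧
    ∀ (W : C) (f : ∀ j ∈ T, W ⟶ M.obj j), Compat M T E f →
      ∃! g : W ⟶ P, ∀ j hj, g ≫ π j hj = f j hj

variable [DecidableEq J]

lemma rep_singleton (j₀ : J) : Rep M {j₀} ∅ := by
  refine ⟨M.obj j₀, fun j hj => eqToHom (by rw [Finset.mem_singleton.1 hj]), ?_, ?_⟩
  · intro a ha; simp at ha
  · intro W f _
    refine ⟨f j₀ (Finset.mem_singleton_self _), ?_, ?_⟩
    · intro j hj
      obtain rfl := Finset.mem_singleton.1 hj
      simp
    · intro g hg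
      simpa using hg j₀ (Finset.mem_singleton_self _)

/-- add an object by a binary product -/
lemma rep_insert_prod [HasBinaryProducts C] {T : Finset J} (h : Rep M T ∅) {k : J} (hk : k ∉ T) :
    Rep M (insert k T) ∅ := by
  obtain ⟨P, π, -, hu⟩ := h
  refine ⟨P ⨯ M.obj k, fun j hj => if e : j = k then prod.snd ≫ eqToHom (by rw [e])
    else prod.fst ≫ π j (Finset.mem_of_mem_insert_of_ne hj e), ?_, ?_⟩
  · intro a ha; simp at ha
  · intro W f _
    obtain ⟨g, hg, hgu⟩ := hu W (fun j hj => f j (Finset.mem_insert_of_mem hj))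
      (fun a ha => by simp at ha)
    refine ⟨prod.lift g (f k (Finset.mem_insert_self _ _)), ?_, ?_⟩
    · intro j hj
      by_cases e : j = k
      · subst e
        simp only [dite_true, eqToHom_refl, Category.comp_id]
        exact prod.lift_snd _ _
      · simp only [e, dite_false]
        rw [← Category.assoc, prod.lift_fst, hg]
    · intro g' hg'
      ext
      · rw [prod.lift_fst]
        apply hgu
        intro j hj
        have hne : j ≠ k := fun e => hk (e ▸ hj)
        simpa [hne, Category.assoc] using hg' j (Finset.mem_insert_of_mem hj)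
      · rw [prod.lift_snd]
        simpa using hg' k (Finset.mem_insert_self _ _)

variable [∀ X Y : J, DecidableEq (X ⟶ Y)]

/-- add an object along an arrow out of `T` -/
lemma rep_insert_out {T : Finset J} {E : Finset (Σ x y : J, x ⟶ y)}
    (h : Rep M T E) (hE : ∀ a ∈ E, a.1 ∈ T ∧ a.2.1 ∈ T) {j k : J} (hj : j ∈ T) (hk : k ∉ T)
    (α : j ⟶ k) : Rep M (insert k T) (insert ⟨j, k, α⟩ E) := by
  obtain ⟨P, π, hc, hu⟩ := h
  have hjk : j ≠ k := fun e => hk (e ▸ hj)
  refine ⟨P, fun i hi => if e : i = k then π j hj ≫ M.map α ≫ eqToHom (by rw [e])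
    else π i (Finset.mem_of_mem_insert_of_ne hi e), ?_, ?_⟩
  · intro a ha hx hy
    rcases Finset.mem_insert.1 ha with rfl | ha
    · dsimp only
      simp [hjk]
    · obtain ⟨h1, h2⟩ := hE a ha
      have e1 : a.1 ≠ k := fun e => hk (e ▸ h1)
      have e2 : a.2.1 ≠ k := fun e => hk (e ▸ h2)
      simp only [e1, e2, dite_false]
      exact hc a ha h1 h2
  · intro W f hf
    obtain ⟨g, hg, hgu⟩ := hu W (fun i hi => f i (Finset.mem_insert_of_mem hi))
      (fun a ha hx hy => hf a (Finset.mem_insert_of_mem ha) _ _)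
    refine ⟨g, ?_, ?_⟩
    · intro i hi
      by_cases e : i = k
      · subst e
        simp only [dite_true, eqToHom_refl, Category.comp_id]
        rw [← Category.assoc, hg j hj]
        exact hf ⟨j, i, α⟩ (Finset.mem_insert_self _ _) _ _
      · simp [e, hg]
    · intro g' hg'
      apply hgu
      intro i hi
      have hne : i ≠ k := fun e => hk (e ▸ hi)
      simpa [hne] using hg' i (Finset.mem_insert_of_mem hi)

/-- add an object along an arrow into `T` -/
lemma rep_insert_in [HasPullbacks C] {T : Finset J} {E : Finset (Σ x y : J, x ⟶ y)}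
    (h : Rep M T E) (hE : ∀ a ∈ E, a.1 ∈ T ∧ a.2.1 ∈ T) {j k : J} (hj : j ∈ T) (hk : k ∉ T)
    (α : k ⟶ j) : Rep M (insert k T) (insert ⟨k, j, α⟩ E) := by
  obtain ⟨P, π, hc, hu⟩ := h
  have hjk : j ≠ k := fun e => hk (e ▸ hj)
  refine ⟨pullback (π j hj) (M.map α),
    fun i hi => if e : i = k then pullback.snd _ _ ≫ eqToHom (by rw [e])
    else pullback.fst _ _ ≫ π i (Finset.mem_of_mem_insert_of_ne hi e), ?_, ?_⟩
  · intro a ha hx hy
    rcases Finset.mem_insert.1 ha with rfl | ha
    · dsimp only
      simp [hjk, pullback.condition]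
    · obtain ⟨h1, h2⟩ := hE a ha
      have e1 : a.1 ≠ k := fun e => hk (e ▸ h1)
      have e2 : a.2.1 ≠ k := fun e => hk (e ▸ h2)
      simp only [e1, e2, dite_false, Category.assoc]
      rw [hc a ha h1 h2]
  · intro W f hf
    obtain ⟨g, hg, hgu⟩ := hu W (fun i hi => f i (Finset.mem_insert_of_mem hi))
      (fun a ha hx hy => hf a (Finset.mem_insert_of_mem ha) _ _)
    have w : g ≫ π j hj = f k (Finset.mem_insert_self _ _) ≫ M.map α := by
      rw [hg j hj]
      exact (hf ⟨k, j, α⟩ (Finset.mem_insert_self _ _) _ _).symm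
    refine ⟨pullback.lift g (f k (Finset.mem_insert_self _ _)) w, ?_, ?_⟩
    · intro i hi
      by_cases e : i = k
      · subst e
        simp only [dite_true, eqToHom_refl, Category.comp_id]
        exact pullback.lift_snd _ _ _
      · simp only [e, dite_false]
        rw [← Category.assoc, pullback.lift_fst, hg]
    · intro g' hg'
      apply pullback.hom_ext
      · rw [pullback.lift_fst]
        apply hgu
        intro i hi
        have hne : i ≠ k := fun e => hk (e ▸ hi)
        simpa [hne, Category.assoc] using hg' i (Finset.mem_insert_of_mem hi)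
      · rw [pullback.lift_snd]
        simpa using hg' k (Finset.mem_insert_self _ _)

/-- add an arrow inside `T` by an equalizer -/
lemma rep_insert_arrow [HasEqualizers C] {T : Finset J} {E : Finset (Σ x y : J, x ⟶ y)}
    (h : Rep M T E) (a : Σ x y : J, x ⟶ y) (hx : a.1 ∈ T) (hy : a.2.1 ∈ T) :
    Rep M T (insert a E) := by
  obtain ⟨P, π, hc, hu⟩ := h
  refine ⟨equalizer (π a.1 hx ≫ M.map a.2.2) (π a.2.1 hy),
    fun i hi => equalizer.ι _ _ ≫ π i hi, ?_, ?_⟩
  · intro b hb hx' hy'
    rcases Finset.mem_insert.1 hb with rfl | hb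
    · simpa [Category.assoc] using equalizer.condition (π b.1 hx ≫ M.map b.2.2) (π b.2.1 hy)
    · rw [Category.assoc, hc b hb hx' hy']
  · intro W f hf
    obtain ⟨g, hg, hgu⟩ := hu W f (fun b hb => hf b (Finset.mem_insert_of_mem hb))
    refine ⟨equalizer.lift g ?_, ?_, ?_⟩
    · rw [← Category.assoc, hg, hg]
      exact hf a (Finset.mem_insert_self _ _) _ _
    · intro i hi
      rw [← Category.assoc, equalizer.lift_ι, hg]
    · intro g' hg'
      apply equalizer.hom_ext
      rw [equalizer.lift_ι]
      apply hgu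
      intro i hi
      simpa [Category.assoc] using hg' i hi

lemma rep_add_arrows [HasEqualizers C] [Fintype J] {E : Finset (Σ x y : J, x ⟶ y)}
    (h : Rep M Finset.univ E) (A : Finset (Σ x y : J, x ⟶ y)) :
    Rep M Finset.univ (A ∪ E) := by
  induction A using Finset.induction with
  | empty => simpa using h
  | insert a A _ ih =>
    rw [Finset.insert_union]
    exact rep_insert_arrow M ih a (Finset.mem_univ _) (Finset.mem_univ _)

omit [DecidableEq J] [∀ X Y : J, DecidableEq (X ⟶ Y)] in
lemma hasLimit_of_rep [Fintype J] {E : Finset (Σ x y : J, x ⟶ y)}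
    (hE : ∀ a, a ∈ E) (h : Rep M Finset.univ E) : HasLimit M := by
  obtain ⟨P, π, hc, hu⟩ := h
  let c : Cone M :=
    { pt := P
      π :=
        { app := fun j => π j (Finset.mem_univ _)
          naturality := fun x y f => by
            simpa using (hc ⟨x, y, f⟩ (hE _) (Finset.mem_univ _) (Finset.mem_univ _)).symm } }
  have hfam : ∀ s : Cone M, Compat M Finset.univ E (fun j _ => s.π.app j) :=
    fun s a _ _ _ => s.w a.2.2
  exact ⟨⟨⟨c,
    { lift := fun s => (hu s.pt _ (hfam s)).choose
      fac := fun s j => (hu s.pt _ (hfam s)).choose_spec.1 j (Finset.mem_univ _)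
      uniq := fun s m hm => (hu s.pt _ (hfam s)).choose_spec.2 m (fun j _ => hm j) }⟩⟩⟩

lemma rep_univ_prod [Fintype J] [Nonempty J] [HasBinaryProducts C] :
    Rep M Finset.univ ∅ := by
  suffices ∀ T : Finset J, T.Nonempty → Rep M T ∅ from this _ Finset.univ_nonempty
  intro T hT
  induction hT using Finset.Nonempty.cons_induction with
  | singleton a => exact rep_singleton M a
  | cons a s ha _ ih =>
    rw [Finset.cons_eq_insert]
    exact rep_insert_prod M ih ha

lemma rep_univ_connected [Fintype J] [IsConnected J] [HasPullbacks C] :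
    ∃ E, Rep M Finset.univ E := by
  suffices ∀ n : ℕ, ∀ T : Finset J, T.Nonempty → (Finset.univ \ T).card ≤ n →
      ∀ E, (∀ a ∈ E, a.1 ∈ T ∧ a.2.1 ∈ T) → Rep M T E → ∃ E, Rep M Finset.univ E by
    obtain ⟨j₀⟩ := (inferInstance : Nonempty J)
    exact this _ {j₀} (Finset.singleton_nonempty _) le_rfl ∅ (by simp) (rep_singleton M j₀)
  intro n
  induction n with
  | zero =>
    intro T _ hcard E _ h
    have hT : T = Finset.univ := by
      apply Finset.eq_univ_of_forall
      intro x
      by_contra hx
      have : x ∈ Finset.univ \ T := by simp [hx]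
      rw [Finset.card_eq_zero.1 (Nat.le_zero.1 hcard)] at this
      simp at this
    subst hT
    exact ⟨E, h⟩
  | succ n ih =>
    intro T hne hcard E hE h
    by_cases hT : T = Finset.univ
    · subst hT; exact ⟨E, h⟩
    obtain ⟨t, ht⟩ := hne
    have hex : ∃ j k, j ∈ T ∧ k ∉ T ∧ (Nonempty (j ⟶ k) ∨ Nonempty (k ⟶ j)) := by
      by_contra hno
      push Not at hno
      apply hT
      apply Finset.eq_univ_of_forall
      intro x
      refine induct_on_objects (p := {x | x ∈ T}) ht (fun {j₁ j₂} f => ⟨fun h1 => ?_, fun h2 => ?_⟩) x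
      · by_contra h2
        exact (hno j₁ j₂ h1 h2).1.elim f
      · by_contra h1
        exact (hno j₂ j₁ h2 h1).2.elim f
    obtain ⟨j, k, hj, hk, hjk⟩ := hex
    have hcard' : (Finset.univ \ insert k T).card ≤ n := by
      have h1 : (Finset.univ \ insert k T) = (Finset.univ \ T).erase k := by
        ext x; simp [and_comm]
      rw [h1, Finset.card_erase_of_mem (by simp [hk])]
      omega
    have hmem : ∀ (a : Σ x y : J, x ⟶ y), a ∈ E → a.1 ∈ insert k T ∧ a.2.1 ∈ insert k T :=
      fun a ha => ⟨Finset.mem_insert_of_mem (hE a ha).1, Finset.mem_insert_of_mem (hE a ha).2⟩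
    rcases hjk with ⟨⟨α⟩⟩ | ⟨⟨α⟩⟩
    · refine ih _ (Finset.insert_nonempty _ _) hcard' _ ?_ (rep_insert_out M h hE hj hk α)
      intro a ha
      rcases Finset.mem_insert.1 ha with rfl | ha
      · exact ⟨Finset.mem_insert_of_mem hj, Finset.mem_insert_self _ _⟩
      · exact hmem a ha
    · refine ih _ (Finset.insert_nonempty _ _) hcard' _ ?_ (rep_insert_in M h hE hj hk α)
      intro a ha
      rcases Finset.mem_insert.1 ha with rfl | ha
      · exact ⟨Finset.mem_insert_self _ _, Finset.mem_insert_of_mem hj⟩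
      · exact hmem a ha

end Groth.Agent.CatLimFin
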